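import Cfsg.Agent.CosetCert.Y522Index1080.Defs

/-! Generated: kernel checks. -/

set_option Elab.async false

namespace Cfsg.Agent.CosetCert.Y522Index1080

theorem rels_okAt0 : allFrom data.checkRels 0 500 = true := by decide +kernel

theorem rels_okAt500 : allFrom data.checkRels 500 500 = true := by decide +kernel

theorem rels_okAt1000 : allFrom data.checkRels 1000 80 = true := by decide +kernel

end Cfsg.Agent.CosetCert.Y522Index1080
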